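import Mathlib

/-!
# Certificates for the unitary group of dimension three over the field with twenty-five elements
-/

set_option autoImplicit false
set_option linter.style.longLine false
set_option linter.style.setOption false
set_option linter.style.haveILetI false
set_option maxRecDepth 100000

namespace Cfsg.Lib.U35

open Matrix

/-- The field with twenty-five elements, as `F₅[w]` with `w² = 2`. -/
abbrev R := QuadraticAlgebra (ZMod 5) 2 0

instance : Fintype R := Fintype.ofEquiv _ (QuadraticAlgebra.equivProd (2 : ZMod 5) 0).symm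

/-- The element `a + b w`. -/
def el (a b : ZMod 5) : R := ⟨a, b⟩

/-- Conjugation. -/
def cj (x : R) : R := ⟨x.re, -x.im⟩

theorem cj_eq_pow : ∀ x : R, cj x = x ^ 5 := by decide +kernel

theorem cj_add (x y : R) : cj (x + y) = cj x + cj y := by ext <;> simp [cj, add_comm]

theorem cj_mul (x y : R) : cj (x * y) = cj x * cj y := by ext <;> simp [cj] <;> ring

theorem cj_cj (x : R) : cj (cj x) = x := by ext <;> simp [cj]

theorem cj_neg (x : R) : cj (-x) = -cj x := by ext <;> simp [cj]

theorem cj_zero : cj 0 = 0 := by ext <;> simp [cj]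

theorem exists_inv : ∀ x : R, x ≠ 0 → ∃ y : R, x * y = 1 := by decide +kernel

/-- Matrices over `R`. -/
abbrev MR := Matrix (Fin 3) (Fin 3) R

/-- `Good M`: determinant one and unitary. -/
def Good (M : MR) : Prop := M.det = 1 ∧ Mᵀ * M.map cj = 1

/-- Unipotent matrix with respect to the antidiagonal form. -/
def um (a b : R) : MR := !![1, -cj a, b; 0, 1, a; 0, 0, 1]

/-- The condition on the parameters of a unipotent matrix. -/
def Cond (a b : R) : Prop := b + cj b + a * cj a = 0

instance (a b : R) : Decidable (Cond a b) := inferInstanceAs (Decidable (_ = _))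

/-- Basis change. -/
def bP : MR := !![0, 1, 2; 1, 3, 1; 2, 1, 0]

/-- Inverse basis change. -/
def bP' : MR := !![2, 1, 0; 1, 3, 1; 0, 1, 2]

theorem bP_mul : bP * bP' = 1 := by decide +kernel

theorem bP'_mul : bP' * bP = 1 := by decide +kernel

theorem conj_mul (M N : MR) : bP * M * bP' * (bP * N * bP') = bP * (M * N) * bP' := by
  calc bP * M * bP' * (bP * N * bP') = bP * M * (bP' * bP) * (N * bP') := by
        simp only [Matrix.mul_assoc]
    _ = _ := by rw [bP'_mul, Matrix.mul_one]; simp only [Matrix.mul_assoc]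

theorem conj_inj {M N : MR} (h : bP * M * bP' = bP * N * bP') : M = N := by
  have e := congrArg (fun X => bP' * X * bP) h
  have hh : ∀ X : MR, bP' * (bP * X * bP') * bP = X := fun X => by
    rw [← Matrix.mul_assoc, ← Matrix.mul_assoc, bP'_mul, Matrix.one_mul, Matrix.mul_assoc, bP'_mul,
      Matrix.mul_one]
  simpa only [hh] using e

/-- Unipotent matrix in the standard basis. -/
def uS (a b : R) : MR := bP * um a b * bP'

theorem um_mul (a b c d : R) : um a b * um c d = um (a + c) (d - cj a * c + b) := by
  refine Matrix.ext fun i j => ?_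
  fin_cases i <;> fin_cases j <;> simp [um, Matrix.mul_apply, Fin.sum_univ_three, cj_add] <;> ring

theorem um_zero : um 0 0 = 1 := by
  refine Matrix.ext fun i j => ?_
  fin_cases i <;> fin_cases j <;> simp [um, cj_zero]

theorem uS_mul (a b c d : R) : uS a b * uS c d = uS (a + c) (d - cj a * c + b) := by
  rw [uS, uS, conj_mul, um_mul]; rfl

theorem uS_zero : uS 0 0 = 1 := by rw [uS, um_zero, Matrix.mul_one, bP_mul]

theorem uS_inj {a b c d : R} (h : uS a b = uS c d) : a = c ∧ b = d := by
  have e := conj_inj h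
  exact ⟨by simpa [um] using congrFun (congrFun e 1) 2, by simpa [um] using congrFun (congrFun e 0) 2⟩

theorem cond_mul {a b c d : R} (h : Cond a b) (h' : Cond c d) :
    Cond (a + c) (d - cj a * c + b) := by
  unfold Cond at *
  rw [cj_add, cj_add, sub_eq_add_neg d, cj_add, cj_neg, cj_mul, cj_cj]
  linear_combination h + h'

theorem cond_inv {a b : R} (h : Cond a b) :
    Cond (-a) (cj b) ∧ uS a b * uS (-a) (cj b) = 1 := by
  unfold Cond at *
  refine ⟨by rw [cj_cj, cj_neg]; linear_combination h, ?_⟩
  rw [uS_mul, add_neg_cancel, show cj b - cj a * -a + b = 0 by linear_combination h, uS_zero]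

instance (M : MR) : Decidable (Good M) := inferInstanceAs (Decidable (_ ∧ _))

theorem uS_good : ∀ a b : R, Cond a b → Good (uS a b) := by decide +kernel

theorem card_cond : Fintype.card {p : R × R // Cond p.1 p.2} = 125 := by decide +kernel

/-- The generator of the centre of the unipotent group. -/
def wEl : R := el 0 1

theorem cond_w : Cond 0 wEl := by decide +kernel

theorem cond_centre : ∀ b : R, Cond 0 b → b ≠ 0 → ∃ k : Fin 5, (k.val : R) * b = wEl := by decide +kernel

theorem centre_pow : ∀ b : R, Cond 0 b → ∃ k : Fin 5, (k.val : R) * wEl = b := by decide +kernel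

theorem card_comm : ∀ a : R, a ≠ 0 →
    Fintype.card {c : R // cj a * c = cj c * a} ≤ 5 := by decide +kernel

theorem comm_w : ∀ a : R, cj a * (wEl * a) = cj (wEl * a) * a → a = 0 := by decide +kernel

/-- The torus element. -/
def tD : MR := !![wEl, 0, 0; 0, 4, 0; 0, 0, 2 * wEl]

/-- The torus element in the standard basis. -/
def tS : MR := bP * tD * bP'

theorem tS_good : Good tS := by unfold Good; decide +kernel

theorem tS_pow : tS ^ 8 = 1 := by decide +kernel

theorem tD_mul : ∀ a b : R, tD * um a b = um (wEl * a) (3 * b) * tD := by decide +kernel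

theorem tS_mul (a b : R) : tS * uS a b = uS (wEl * a) (3 * b) * tS := by
  rw [tS, uS, uS, conj_mul, conj_mul, tD_mul]

/-- Generators of a subgroup isomorphic to the alternating group of degree seven. -/
def xg : Fin 5 → MR :=
  ![!![0, el 0 1, el 1 3; el 0 1, 2, el 4 4; el 1 2, el 1 4, 3],
    !![1, 0, 0; 0, 4, 0; 0, 0, 4],
    !![2, 0, el 2 1; 0, 4, 0; el 2 4, 0, 3],
    !![4, 0, 0; 0, 2, el 2 1; 0, el 2 4, 3],
    !![4, 0, 0; 0, 1, 0; 0, 0, 4]]

theorem xg_good : ∀ i, Good (xg i) := by unfold Good; decide +kernel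

theorem xg_zero : xg 0 ^ 3 = 1 := by decide +kernel

theorem xg_sq : ∀ i : Fin 5, 1 ≤ i.val → xg i ^ 2 = 1 := by decide +kernel

theorem xg_next : ∀ i j : Fin 5, j.val = i.val + 1 → (xg i * xg j) ^ 3 = 1 := by decide +kernel

theorem xg_far : ∀ i j : Fin 5, i.val + 1 < j.val →
    ∃ c : R, (xg i * xg j) ^ 2 = Matrix.scalar (Fin 3) c := by decide +kernel

theorem xg_one_ne : xg 1 ≠ 1 := by decide +kernel

section Field

variable {F : Type*} [Field F] [Fintype F]

theorem five_eq_zero (hF : Fintype.card F = 25) : ((5 : ℕ) : F) = 0 := by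
  have h := Nat.cast_card_eq_zero F
  rw [hF, show (25 : ℕ) = 5 ^ 2 from rfl, Nat.cast_pow] at h
  exact eq_zero_of_pow_eq_zero h

/-- An embedding of `R` into a field with twenty-five elements. -/
theorem exists_hom (hF : Fintype.card F = 25) :
    ∃ φ : R →+* F, Function.Injective φ ∧ ∀ x, φ (cj x) = φ x ^ 5 := by
  haveI : Fact (Nat.Prime 5) := ⟨by norm_num⟩
  haveI : CharP F 5 := (CharP.charP_iff_prime_eq_zero (by norm_num)).2 (five_eq_zero hF)
  letI : Algebra (ZMod 5) F := ZMod.algebra F 5
  have h2 : (2 : F) ≠ 0 := by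
    intro h
    have h' := five_eq_zero hF
    push_cast at h'
    exact one_ne_zero (show (1 : F) = 0 by linear_combination h' - 2 * h)
  obtain ⟨w, hw⟩ : IsSquare (2 : F) := by
    rw [FiniteField.isSquare_iff (by rw [ringChar.eq F 5]; norm_num) h2, hF]
    have h' := five_eq_zero hF
    push_cast at h'
    norm_num
    linear_combination 819 * h'
  have hφ : w * w = (2 : ZMod 5) • (1 : F) + (0 : ZMod 5) • w := by
    rw [zero_smul, add_zero, Algebra.smul_def, mul_one, map_ofNat]; exact hw.symm
  let φ : R →+* F := (QuadraticAlgebra.lift (R := ZMod 5) (a := 2) (b := 0) ⟨w, hφ⟩).toRingHom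
  refine ⟨φ, ?_, fun x => by rw [cj_eq_pow, map_pow]⟩
  refine (injective_iff_map_eq_zero φ).2 fun x hx => ?_
  by_contra hne
  obtain ⟨y, hy⟩ := exists_inv x hne
  have := congrArg φ hy
  rw [map_mul, hx, zero_mul, map_one] at this
  exact zero_ne_one this

end Field

end Cfsg.Lib.U35
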